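import Cfsg.Agent.H805.EPX.Data
import Cfsg.Agent.H542.EPX.Cells
import Cfsg.Agent.OrdDiv.Table

/-!
# S5745, the cell `Spor` of the family `²F₄(q)`, `q = 2 ^ (2 m + 1) ≥ 8` (helper768)

The order sieve leaves nothing: for no sporadic `T` and no `m ≥ 1` with `|²F₄(q)| ≤ 2 ^ b(T)` does `|T|` divide
`|²F₄(q)|`.
-/

set_option autoImplicit false
set_option maxHeartbeats 4000000

namespace Cfsg.Agent.H768.EPX.TF4

open Subgroup Cfsg Cfsg.Agent.H284 Cfsg.Agent.H209.EPX Cfsg.Agent.H59.EP Cfsg.Agent.H419.EP Cfsg.Agent.H226.EX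
  Cfsg.Agent.H542.EPX Cfsg.Agent.H805.EPX

/-- the order of `²F₄(q)` -/
def od (q : ℕ) : ℕ := q ^ 12 * (q - 1) * (q ^ 3 + 1) * (q ^ 4 - 1) * (q ^ 6 + 1)

theorem od_mono : Monotone od := by
  intro a b h
  simp only [od]
  gcongr

/-- a single `m` -/
def okm (n B m : ℕ) : Bool :=
  Nat.blt B (od (2 ^ (2 * m + 1))) || !(Nat.beq (od (2 ^ (2 * m + 1)) % n) 0)

/-- the range `1 ≤ m ≤ M` -/
def chkm (n B : ℕ) : ℕ → Bool
  | 0 => true
  | M + 1 => okm n B (M + 1) && chkm n B M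

theorem of_chkm {n B M : ℕ} (h : chkm n B M = true) {m : ℕ} (h1 : 1 ≤ m) (h2 : m ≤ M) : okm n B m = true := by
  induction M with
  | zero => omega
  | succ M ih =>
    rw [chkm, Bool.and_eq_true] at h
    rcases (by omega : m = M + 1 ∨ m ≤ M) with rfl | h3
    · exact h.1
    · exact ih h.2 h3

/-- **the sieve** -/
theorem none_of {n B : ℕ} (M : ℕ) (h : chkm n B M = true) (hM : B < od (2 ^ (2 * (M + 1) + 1))) {m C : ℕ}
    (hm : 1 ≤ m) (hC : C = od (2 ^ (2 * m + 1))) (hB : C ≤ B) (hn : n ∣ C) : False := by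
  have h1 : m ≤ M := by
    by_contra hcon
    push Not at hcon
    have h2 : 2 ^ (2 * (M + 1) + 1) ≤ 2 ^ (2 * m + 1) := Nat.pow_le_pow_right (by norm_num) (by omega)
    have h3 := od_mono h2
    omega
  have h2 := of_chkm h hm h1
  rw [okm, Bool.or_eq_true] at h2
  rcases h2 with h2 | h2
  · unfold Nat.blt at h2
    have h3 := Nat.le_of_ble_eq_true h2
    omega
  · have h3 : od (2 ^ (2 * m + 1)) % n = 0 := Nat.mod_eq_zero_of_dvd (hC ▸ hn)
    rw [h3] at h2
    exact absurd h2 (by decide)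

theorem c_m11 : chkm 7920 (2 ^ 49) 0 = true := by decide +kernel

theorem d_m11 : 2 ^ 49 < od (2 ^ (2 * (0 + 1) + 1)) := by decide +kernel

theorem c_m12 : chkm 95040 (2 ^ 65) 0 = true := by decide +kernel

theorem d_m12 : 2 ^ 65 < od (2 ^ (2 * (0 + 1) + 1)) := by decide +kernel

theorem c_m22 : chkm 443520 (2 ^ 75) 0 = true := by decide +kernel

theorem d_m22 : 2 ^ 75 < od (2 ^ (2 * (0 + 1) + 1)) := by decide +kernel

theorem c_m23 : chkm 10200960 (2 ^ 97) 1 = true := by decide +kernel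

theorem d_m23 : 2 ^ 97 < od (2 ^ (2 * (1 + 1) + 1)) := by decide +kernel

theorem c_m24 : chkm 244823040 (2 ^ 120) 1 = true := by decide +kernel

theorem d_m24 : 2 ^ 120 < od (2 ^ (2 * (1 + 1) + 1)) := by decide +kernel

theorem c_j1 : chkm 175560 (2 ^ 68) 0 = true := by decide +kernel

theorem d_j1 : 2 ^ 68 < od (2 ^ (2 * (0 + 1) + 1)) := by decide +kernel

theorem c_j2 : chkm 604800 (2 ^ 77) 0 = true := by decide +kernel

theorem d_j2 : 2 ^ 77 < od (2 ^ (2 * (0 + 1) + 1)) := by decide +kernel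

theorem c_j3 : chkm 50232960 (2 ^ 108) 1 = true := by decide +kernel

theorem d_j3 : 2 ^ 108 < od (2 ^ (2 * (1 + 1) + 1)) := by decide +kernel

theorem c_j4 : chkm 86775571046077562880 (2 ^ 322) 5 = true := by decide +kernel

theorem d_j4 : 2 ^ 322 < od (2 ^ (2 * (5 + 1) + 1)) := by decide +kernel

theorem c_co1 : chkm 4157776806543360000 (2 ^ 309) 5 = true := by decide +kernel

theorem d_co1 : 2 ^ 309 < od (2 ^ (2 * (5 + 1) + 1)) := by decide +kernel

theorem c_co2 : chkm 42305421312000 (2 ^ 228) 3 = true := by decide +kernel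

theorem d_co2 : 2 ^ 228 < od (2 ^ (2 * (3 + 1) + 1)) := by decide +kernel

theorem c_co3 : chkm 495766656000 (2 ^ 175) 2 = true := by decide +kernel

theorem d_co3 : 2 ^ 175 < od (2 ^ (2 * (2 + 1) + 1)) := by decide +kernel

theorem c_mcl : chkm 898128000 (2 ^ 129) 1 = true := by decide +kernel

theorem d_mcl : 2 ^ 129 < od (2 ^ (2 * (1 + 1) + 1)) := by decide +kernel

theorem c_hs : chkm 44352000 (2 ^ 107) 1 = true := by decide +kernel

theorem d_hs : 2 ^ 107 < od (2 ^ (2 * (1 + 1) + 1)) := by decide +kernel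

theorem c_suz : chkm 448345497600 (2 ^ 174) 2 = true := by decide +kernel

theorem d_suz : 2 ^ 174 < od (2 ^ (2 * (2 + 1) + 1)) := by decide +kernel

theorem c_he : chkm 4030387200 (2 ^ 140) 2 = true := by decide +kernel

theorem d_he : 2 ^ 140 < od (2 ^ (2 * (2 + 1) + 1)) := by decide +kernel

theorem c_ru : chkm 145926144000 (2 ^ 170) 2 = true := by decide +kernel

theorem d_ru : 2 ^ 170 < od (2 ^ (2 * (2 + 1) + 1)) := by decide +kernel

theorem c_on : chkm 460815505920 (2 ^ 174) 2 = true := by decide +kernel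

theorem d_on : 2 ^ 174 < od (2 ^ (2 * (2 + 1) + 1)) := by decide +kernel

theorem c_ly : chkm 51765179004000000 (2 ^ 258) 4 = true := by decide +kernel

theorem d_ly : 2 ^ 258 < od (2 ^ (2 * (4 + 1) + 1)) := by decide +kernel

theorem c_fi22 : chkm 64561751654400 (2 ^ 221) 3 = true := by decide +kernel

theorem d_fi22 : 2 ^ 221 < od (2 ^ (2 * (3 + 1) + 1)) := by decide +kernel

theorem c_fi23 : chkm 4089470473293004800 (2 ^ 289) 5 = true := by decide +kernel

theorem d_fi23 : 2 ^ 289 < od (2 ^ (2 * (5 + 1) + 1)) := by decide +kernel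

theorem c_fi24 : chkm 1255205709190661721292800 (2 ^ 381) 6 = true := by decide +kernel

theorem d_fi24 : 2 ^ 381 < od (2 ^ (2 * (6 + 1) + 1)) := by decide +kernel

theorem c_hn : chkm 273030912000000 (2 ^ 220) 3 = true := by decide +kernel

theorem d_hn : 2 ^ 220 < od (2 ^ (2 * (3 + 1) + 1)) := by decide +kernel

theorem c_th : chkm 90745943887872000 (2 ^ 262) 4 = true := by decide +kernel

theorem d_th : 2 ^ 262 < od (2 ^ (2 * (4 + 1) + 1)) := by decide +kernel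

theorem c_b : chkm 4154781481226426191177580544000000 (2 ^ 778) 14 = true := by decide +kernel

theorem d_b : 2 ^ 778 < od (2 ^ (2 * (14 + 1) + 1)) := by decide +kernel

theorem c_m : chkm 808017424794512875886459904961710757005754368000000000 (2 ^ 1092) 20 = true := by decide +kernel

theorem d_m : 2 ^ 1092 < od (2 ^ (2 * (20 + 1) + 1)) := by decide +kernel

/-- nothing survives, for any group of the order of `²F₄(q)` -/
theorem main_tf4 (hg : TwoGen.{0}) {G : Type} [Group G] [Finite G] [IsSimpleGroup G] {H N : Subgroup G} {T : Type}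
    [Group T] {e : N ≃* (Fin 1 → T)} (h : EPS H N e) (hT : IsSporadicGroup T) {m : ℕ} (hm : 1 ≤ m)
    (hC : Nat.card G = od (2 ^ (2 * m + 1))) : False := by
  rcases hT with h1 | h1 | h1 | h1 | h1 | h1 | h1 | h1 | h1 | h1 | h1 | h1 | h1 | h1 | h1 | h1 | h1 | h1 | h1 | h1 | h1 | h1 | h1 | h1 | h1 | h1
  · obtain ⟨hB, hd⟩ := le_m11 hg h h1
    exact none_of 0 c_m11 d_m11 hm hC hB hd
  · obtain ⟨hB, hd⟩ := le_m12 hg h h1
    exact none_of 0 c_m12 d_m12 hm hC hB hd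
  · obtain ⟨hB, hd⟩ := le_m22 hg h h1
    exact none_of 0 c_m22 d_m22 hm hC hB hd
  · obtain ⟨hB, hd⟩ := le_m23 hg h h1
    exact none_of 1 c_m23 d_m23 hm hC hB hd
  · obtain ⟨hB, hd⟩ := le_m24 hg h h1
    exact none_of 1 c_m24 d_m24 hm hC hB hd
  · obtain ⟨hB, hd⟩ := le_j1 hg h h1
    exact none_of 0 c_j1 d_j1 hm hC hB hd
  · obtain ⟨hB, hd⟩ := le_j2 hg h h1
    exact none_of 0 c_j2 d_j2 hm hC hB hd
  · obtain ⟨hB, hd⟩ := le_j3 hg h h1
    exact none_of 1 c_j3 d_j3 hm hC hB hd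
  · obtain ⟨hB, hd⟩ := le_j4 hg h h1
    exact none_of 5 c_j4 d_j4 hm hC hB hd
  · obtain ⟨hB, hd⟩ := le_co1 hg h h1
    exact none_of 5 c_co1 d_co1 hm hC hB hd
  · obtain ⟨hB, hd⟩ := le_co2 hg h h1
    exact none_of 3 c_co2 d_co2 hm hC hB hd
  · obtain ⟨hB, hd⟩ := le_co3 hg h h1
    exact none_of 2 c_co3 d_co3 hm hC hB hd
  · obtain ⟨hB, hd⟩ := le_mcl hg h h1
    exact none_of 1 c_mcl d_mcl hm hC hB hd
  · obtain ⟨hB, hd⟩ := le_hs hg h h1
    exact none_of 1 c_hs d_hs hm hC hB hd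
  · obtain ⟨hB, hd⟩ := le_suz hg h h1
    exact none_of 2 c_suz d_suz hm hC hB hd
  · obtain ⟨hB, hd⟩ := le_he hg h h1
    exact none_of 2 c_he d_he hm hC hB hd
  · obtain ⟨hB, hd⟩ := le_ru hg h h1
    exact none_of 2 c_ru d_ru hm hC hB hd
  · obtain ⟨hB, hd⟩ := le_on hg h h1
    exact none_of 2 c_on d_on hm hC hB hd
  · obtain ⟨hB, hd⟩ := le_ly hg h h1
    exact none_of 4 c_ly d_ly hm hC hB hd
  · obtain ⟨hB, hd⟩ := le_fi22 hg h h1
    exact none_of 3 c_fi22 d_fi22 hm hC hB hd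
  · obtain ⟨hB, hd⟩ := le_fi23 hg h h1
    exact none_of 5 c_fi23 d_fi23 hm hC hB hd
  · obtain ⟨hB, hd⟩ := le_fi24 hg h h1
    exact none_of 6 c_fi24 d_fi24 hm hC hB hd
  · obtain ⟨hB, hd⟩ := le_hn hg h h1
    exact none_of 3 c_hn d_hn hm hC hB hd
  · obtain ⟨hB, hd⟩ := le_th hg h h1
    exact none_of 4 c_th d_th hm hC hB hd
  · obtain ⟨hB, hd⟩ := le_b hg h h1
    exact none_of 14 c_b d_b hm hC hB hd
  · obtain ⟨hB, hd⟩ := le_m hg h h1
    exact none_of 20 c_m d_m hm hC hB hd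

/-- **the sporadic cell of `²F₄(q)`, `q ≥ 8`** -/
theorem spor_tf4 (hg : TwoGen.{0}) (K : Type) [Field K] [Fintype K] (m : ℕ)
    [IsSimpleGroup ↥(Lie.twistedF4 K (2 ^ m))] (hm : 1 ≤ m) (hK : Fintype.card K = 2 ^ (2 * m + 1)) :
    Spor ↥(Lie.twistedF4 K (2 ^ m)) := by
  intro H N T _ e h hT
  have hC : Nat.card ↥(Lie.twistedF4 K (2 ^ m)) = od (2 ^ (2 * m + 1)) := OrdDiv.table.{0}.tf4 K m hm hK
  haveI : Finite ↥(Lie.twistedF4 K (2 ^ m)) := by
    apply Nat.finite_of_card_ne_zero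
    rw [hC]
    have h1 : 2 ≤ 2 ^ (2 * m + 1) := by
      calc 2 = 2 ^ 1 := rfl
        _ ≤ _ := Nat.pow_le_pow_right (by norm_num) (by omega)
    have h2 := od_mono h1
    have h3 : 0 < od 2 := by decide +kernel
    omega
  exact main_tf4 hg h hT hm hC

end Cfsg.Agent.H768.EPX.TF4
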